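import Cfsg.Agent.Lib.Helper51.TIH.Asm
import Cfsg.Agent.Lib.Helper51.TIH.SecA
import Cfsg.Agent.Lib.Helper93.TIH.O
import Cfsg.Agent.Lib.Helper93.TIH.F
import Cfsg.Agent.Lib.Helper84.TIH.Hall
import Cfsg.Agent.Lib.Helper25.TIH.ON
import Cfsg.Agent.Lib.Helper25.TIH.Act
import Cfsg.Agent.Lib.Helper13.TIH.Normal
import Cfsg.Agent.Lib.Helper13.TIH.SecB
import Cfsg.Agent.Lib.Helper13.TIH.Ext
import Cfsg.Agent.Lib.Helper38.TIH.SolvH
import Cfsg.Agent.Lib.Helper79.TIH.Syl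
import Cfsg.Agent.Lib.Helper97.TIH.Aut
import Cfsg.Agent.Lib.Helper80.TIH.Quot

/-!
# Project TIH (S4118): the assembly of all landed packages; the only open inputs are
[FWD] and [AUT-P].
-/

set_option autoImplicit false

namespace Cfsg.Agent.Lib.Helper51.TIH

universe u

/-- S4118 from the two packages that are still open (all others are on main). -/
theorem s4118_final (hFwd : PkgFwd.{u}) (hAutP : PkgAutP.{u})
    {G : Type u} [Group G] [Finite G] (H : Subgroup G)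
    (hTI : Cfsg.IsTISubset (H : Set G)) (hnn : ¬ H.Normal)
    (hHall : (Nat.card H).Coprime (H.subgroupOf (Subgroup.normalizer (H : Set G))).index)
    (hsep : ∃ (n : ℕ) (M : Fin (n + 1) → Subgroup G), M 0 = ⊥ ∧ M (Fin.last n) = ⊤ ∧ Monotone M ∧ (∀ i, (M i).Normal) ∧
      ∀ i : Fin n, (∀ q : ℕ, q.Prime → q ∣ (M i.castSucc).relIndex (M i.succ) → q ∣ Nat.card H) ∨
        ((M i.castSucc).relIndex (M i.succ)).Coprime (Nat.card H))
    (O : Subgroup G) (hO : O = sSup {K : Subgroup G | K.Normal ∧ (Nat.card K).Coprime (Nat.card H)}) :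
    O ⊔ Subgroup.normalizer (H : Set G) = ⊤ ∧ (O ⊔ H).Normal ∧
    (Group.IsSolvable G ↔ Group.IsSolvable O ∧
      ∀ K : Subgroup G, K ≤ H → ¬ Nonempty (K ≃* Matrix.SpecialLinearGroup (Fin 2) (ZMod 5))) :=
  s4118_of Cfsg.Agent.Lib.Helper93.TIH.pkgO Cfsg.Agent.Lib.Helper84.TIH.pkgHall
    Cfsg.Agent.Lib.Helper93.TIH.pkgF Cfsg.Agent.Lib.Helper25.TIH.pkgON
    Cfsg.Agent.Lib.Helper13.TIH.pkgNormal hFwd Cfsg.Agent.Lib.Helper25.TIH.pkgAct
    pkgSecA Cfsg.Agent.Lib.Helper13.TIH.pkgSecB Cfsg.Agent.Lib.Helper38.TIH.pkgSolvH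
    Cfsg.Agent.Lib.Helper79.TIH.pkgSyl (Cfsg.Agent.Lib.Helper97.TIH.pkgAut hAutP)
    Cfsg.Agent.Lib.Helper80.TIH.pkgQuot Cfsg.Agent.Lib.Helper13.TIH.pkgExt
    H hTI hnn hHall hsep O hO

end Cfsg.Agent.Lib.Helper51.TIH
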